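import Cfsg.Agent.Lib.RealEvenChar.Count
import Cfsg.Agent.Lib.RealBlock.GaloisFixed
import Cfsg.Agent.Lib.Char.Integral
import Cfsg.Agent.Lib.Char.PRegular

/-!
# Galois-fixed characters of even degree

If every Sylow 2-subgroup is commutative and two of them differ, then the character sum attached to
the odd number of factorisations of `Count` shows that some character of even degree is fixed by the
twist that inverts the elements of odd order and fixes the 2-elements.
-/

set_option autoImplicit false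

namespace Cfsg.Agent.RealEvenChar

open Cfsg Blocks LinearMap Module

variable {G : Type*} [Group G]

/-- The product of two equal scalar sums in every irreducible character, evaluated. -/
theorem sq_div_mul_apply [Fintype G] {χ : G → ℂ} (hχ : IsIrrCharacter G χ) {f : G → ℂ}
    (hf : IsClassFunction G f) (g : G) :
    ((∑ a, f a * χ a) / χ 1) ^ 2 * χ g = ∑ a, ∑ b, f a * f b * χ (a * b * g) := by
  obtain ⟨n, ρ, hi, rfl⟩ := hχ
  have e := Char.groupSumOp_eq_smul ρ hf
  rw [Representation.char_one]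
  set c := (∑ a, f a * ρ.character a) / (finrank ℂ (Fin n → ℂ) : ℂ) with hc
  have h1 : Char.groupSumOp ρ f * Char.groupSumOp ρ f * ρ g =
      ∑ a, ∑ b, (f a * f b) • ρ (a * b * g) := by
    simp only [Char.groupSumOp, Finset.sum_mul, Finset.mul_sum, smul_mul_assoc, mul_smul_comm,
      Finset.smul_sum,
      smul_smul, map_mul]
    rw [Finset.sum_comm]
    exact Finset.sum_congr rfl fun a _ => Finset.sum_congr rfl fun b _ => by
      rw [mul_comm (f a) (f b)]
  have h2 := congrArg (trace ℂ (Fin n → ℂ)) h1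
  rw [e] at h2
  simp only [map_sum, map_smul, smul_eq_mul] at h2
  rw [smul_mul_assoc, smul_mul_assoc, mul_smul_comm, smul_mul_assoc, map_smul, map_smul,
    ← Module.End.one_eq_id, one_mul, one_mul] at h2
  simpa [Representation.character, pow_two, mul_assoc, smul_eq_mul] using h2

/-- The number of factorisations, as a sum over the irreducible characters. -/
theorem sum_degree_mul_sq_mul_apply [Fintype G] [DecidableEq G] [Fintype (IrrCharacter G)] {f : G → ℂ}
    (hf : IsClassFunction G f) (g : G) :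
    ∑ χ : IrrCharacter G, (χ : G → ℂ) 1 *
        (((∑ a, f a * (χ : G → ℂ) a) / (χ : G → ℂ) 1) ^ 2 * (χ : G → ℂ) g) =
      (Nat.card G : ℂ) * ∑ a, ∑ b, if a * b * g = 1 then f a * f b else 0 := by
  simp_rw [sq_div_mul_apply (Subtype.prop _) hf, Finset.mul_sum]
  rw [Finset.sum_comm]
  refine Finset.sum_congr rfl fun a _ => ?_
  rw [Finset.sum_comm]
  refine Finset.sum_congr rfl fun b _ => ?_
  rw [Finset.sum_congr rfl (g := fun χ : IrrCharacter G =>
    (f a * f b) * ((χ : G → ℂ) 1 * (χ : G → ℂ) (a * b * g))) (fun χ _ => by ring),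
    ← Finset.mul_sum, Char.sum_degree_mul_apply]
  split_ifs <;> ring

/-- The twist is an involution. -/
theorem pow_twist_twist [Finite G] {k : ℕ}
    (hk₁ : ∀ g : G, (∃ j : ℕ, orderOf g = 2 ^ j) → g ^ k = g)
    (hk₂ : ∀ g : G, Odd (orderOf g) → g ^ k = g⁻¹) (g : G) : g ^ (k * k) = g := by
  obtain ⟨j, m, hm, hn⟩ := exists_odd_exponent g
  have hm2 : Nat.Coprime (2 ^ j) m := Nat.Coprime.pow_left j (Nat.coprime_two_left.2 hm)
  have hu : (g ^ (k * k)) ^ m = g ^ m := by
    have ho : orderOf (g ^ m) ∣ 2 ^ j :=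
      orderOf_dvd_of_pow_eq_one (by rw [← pow_mul, mul_comm, ← hn, pow_orderOf_eq_one])
    obtain ⟨i, -, hi⟩ := (Nat.dvd_prime_pow Nat.prime_two).mp ho
    rw [← pow_mul, mul_comm, pow_mul, pow_mul, hk₁ _ ⟨i, hi⟩, hk₁ _ ⟨i, hi⟩]
  have hw : (g ^ (k * k)) ^ 2 ^ j = g ^ 2 ^ j := by
    have ho : Odd (orderOf (g ^ 2 ^ j)) :=
      Odd.of_dvd_nat hm (orderOf_dvd_of_pow_eq_one (by rw [← pow_mul, ← hn, pow_orderOf_eq_one]))
    rw [← pow_mul, mul_comm, pow_mul, pow_mul, hk₂ _ ho, inv_pow, hk₂ _ ho, inv_inv]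
  have hcomm : Commute (g ^ (k * k)) g⁻¹ := (Commute.refl g).inv_right.pow_left _
  have h1 : (g ^ (k * k) * g⁻¹) ^ m = 1 := by rw [hcomm.mul_pow, hu, inv_pow, mul_inv_cancel]
  have h2 : (g ^ (k * k) * g⁻¹) ^ 2 ^ j = 1 := by rw [hcomm.mul_pow, hw, inv_pow, mul_inv_cancel]
  have h3 := pow_gcd_eq_one.mpr ⟨h2, h1⟩
  rw [hm2.gcd_eq_one, pow_one] at h3
  exact mul_inv_eq_one.mp h3

theorem coprime_of_pow_twist_twist [Finite G] {k : ℕ} (hkk : ∀ g : G, g ^ (k * k) = g) :
    k.Coprime (Nat.card G) := by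
  by_contra h
  obtain ⟨q, hq, hqk, hqG⟩ := Nat.Prime.not_coprime_iff_dvd.mp h
  have := Fact.mk hq
  obtain ⟨g, hg⟩ := exists_prime_orderOf_dvd_card' q hqG
  have h1 : g ^ k = 1 := orderOf_dvd_iff_pow_eq_one.mp (hg ▸ hqk)
  have h2 := hkk g
  rw [pow_mul, h1, one_pow] at h2
  rw [← h2, orderOf_one] at hg
  exact hq.one_lt.ne hg

variable [Fintype G]

namespace Pair

variable (W : Pair G)

theorem good_conj_iff (a g : G) : W.Good (g * a * g⁻¹) ↔ W.Good a := by
  refine ⟨fun h => ?_, fun h => W.good_conj h g⟩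
  have := W.good_conj h g⁻¹
  rwa [show g⁻¹ * (g * a * g⁻¹) * g⁻¹⁻¹ = a by group] at this

/-- The 2-exponent of the group order. -/
noncomputable def expo (_W : Pair G) : ℕ := (Nat.card G).factorization 2

theorem delta_lt_expo : W.delta < W.expo := W.delta_lt

/-- The common 2-part of the sizes of the classes of good elements. -/
noncomputable def q (W : Pair G) : ℕ := 2 ^ (W.expo - W.delta)

theorem q_ne_zero : (W.q : ℂ) ≠ 0 := Nat.cast_ne_zero.2 (pow_ne_zero _ two_ne_zero)

theorem q_dvd_index {a : G} (ha : W.Good a) :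
    W.q ∣ (Subgroup.centralizer ({a} : Set G)).index := by
  have h := Subgroup.index_mul_card (Subgroup.centralizer ({a} : Set G))
  have h2 := congrArg (fun N : ℕ => N.factorization 2) h
  simp only [Nat.factorization_mul Subgroup.index_ne_zero_of_finite Nat.card_pos.ne',
    Finsupp.add_apply, ha.2] at h2
  rw [q, Nat.prime_two.pow_dvd_iff_le_factorization Subgroup.index_ne_zero_of_finite]
  unfold expo
  omega

open scoped Classical in
/-- The indicator of the good elements. -/
noncomputable def ind : G → ℂ := fun a => if W.Good a then 1 else 0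

theorem isClassFunction_ind : IsClassFunction G W.ind := fun a g => by
  by_cases h : W.Good a <;> simp [ind, h, W.good_conj_iff]

/-- The sum of a function over the good elements. -/
noncomputable def A (χ : G → ℂ) : ℂ := ∑ a, W.ind a * χ a

theorem isIntegral_A_div_degree {χ : G → ℂ} (hχ : IsIrrCharacter G χ) :
    IsIntegral ℤ (W.A χ / χ 1) := by
  obtain ⟨n, ρ, hi, rfl⟩ := hχ
  rw [Representation.char_one]
  refine Char.isIntegral_groupSum_div_degree ρ W.isClassFunction_ind fun a => ?_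
  simp only [ind]
  split_ifs
  · exact isIntegral_one
  · exact isIntegral_zero

theorem isIntegral_A_div_q {χ : G → ℂ} (hχ : IsCharacter G χ) :
    IsIntegral ℤ (W.A χ / W.q) := by
  classical
  have hA : W.A χ = ∑ a ∈ Finset.univ.filter W.Good, χ a := by
    rw [A, Finset.sum_filter]
    exact Finset.sum_congr rfl fun a _ => by simp only [ind]; split_ifs <;> simp
  rw [hA, ← Finset.sum_fiberwise_of_maps_to
    (t := (Finset.univ.filter W.Good).image ConjClasses.mk) (g := ConjClasses.mk)
    (fun a ha => Finset.mem_image_of_mem _ ha), Finset.sum_div]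
  refine IsIntegral.sum _ fun L hL => ?_
  obtain ⟨a, ha, rfl⟩ := Finset.mem_image.1 hL
  have hag : W.Good a := (Finset.mem_filter.1 ha).2
  have hcl := Char.IsCharacter.isClassFunction hχ
  have hfib : (Finset.univ.filter W.Good).filter (fun b => ConjClasses.mk b = ConjClasses.mk a) =
      Finset.univ.filter (fun b => IsConj a b) := by
    ext b
    simp only [Finset.mem_filter, Finset.mem_univ, true_and,
      ConjClasses.mk_eq_mk_iff_isConj]
    refine ⟨fun h => h.2.symm, fun h => ⟨?_, h.symm⟩⟩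
    obtain ⟨c, rfl⟩ := isConj_iff.1 h
    exact W.good_conj hag c
  have hcard : (Finset.univ.filter (fun b => IsConj a b)).card =
      (Subgroup.centralizer ({a} : Set G)).index := by
    rw [Nat.eq_of_mul_eq_mul_right Nat.card_pos ((Subgroup.index_mul_card _).trans
      (Char.card_conjugates_mul_card_centralizer a).symm), Nat.card_eq_fintype_card,
      ← Fintype.card_subtype]
    exact Fintype.card_congr (Equiv.refl _)
  obtain ⟨r, hr⟩ := W.q_dvd_index hag
  rw [hfib, Finset.sum_congr rfl (g := fun _ => χ a) (fun b hb => by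
      obtain ⟨c, rfl⟩ := isConj_iff.1 (Finset.mem_filter.1 hb).2
      exact hcl a c), Finset.sum_const, nsmul_eq_mul, hcard, hr]
  push_cast
  rw [mul_assoc, mul_div_assoc, mul_div_cancel₀ _ W.q_ne_zero]
  exact (isIntegral_algebraMap (R := ℤ) (x := (r : ℤ))).mul (Char.IsCharacter.isIntegral hχ a) |>
    (by simpa using ·)

variable {W} (R : W.Rep)

/-- The point of evaluation. -/
def y : G := (R.x * R.x)⁻¹

theorem commute_y {u : G} (hu : u ∈ W.D) : Commute u (y R) := commute_u_xx R hu

open scoped Classical in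
/-- The average over the coset of `D`. -/
noncomputable def avg (χ : G → ℂ) : ℂ := (Nat.card ↥W.D : ℂ)⁻¹ * ∑ u : ↥W.D, χ ((u : G) * y R)

theorem isIntegral_avg {χ : G → ℂ} (hχ : IsCharacter G χ) : IsIntegral ℤ (avg R χ) := by
  classical
  let Z := Subgroup.zpowers (y R)
  let φ : ↥W.D × ↥Z →* G := MonoidHom.noncommCoprod W.D.subtype Z.subtype fun u z => by
    obtain ⟨i, hi⟩ := Subgroup.mem_zpowers_iff.1 z.2
    show Commute (u : G) (z : G)
    rw [← hi]
    exact (commute_y R u.2).zpow_right i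
  have h := Char.IsCharacter.isIntegral (Char.IsCharacter.average_fst
    (Char.IsCharacter.comp_hom hχ φ)) ⟨y R, Subgroup.mem_zpowers _⟩
  simpa [avg, φ, MonoidHom.noncommCoprod] using h

/-- The summand. -/
noncomputable def F (χ : G → ℂ) : ℂ := W.A χ / χ 1 * (W.A χ / W.q) * avg R χ

theorem isIntegral_F {χ : G → ℂ} (hχ : IsIrrCharacter G χ) : IsIntegral ℤ (F R χ) :=
  ((W.isIntegral_A_div_degree hχ).mul (W.isIntegral_A_div_q (Char.IsIrrCharacter.isCharacter hχ))).mul
    (isIntegral_avg R (Char.IsIrrCharacter.isCharacter hχ))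

theorem sum_F [Fintype (IrrCharacter G)] :
    ∑ χ : IrrCharacter G, F R (χ : G → ℂ) =
      ((W.P : Subgroup G).index : ℂ) * (Nat.card (Pairs R) : ℂ) := by
  classical
  have hq := W.q_ne_zero
  have hD : (Nat.card ↥W.D : ℂ) ≠ 0 := Nat.cast_ne_zero.2 Nat.card_pos.ne'
  have e : ∀ χ : IrrCharacter G, F R (χ : G → ℂ) = ((W.q : ℂ) * Nat.card ↥W.D)⁻¹ *
      ∑ u : ↥W.D, (χ : G → ℂ) 1 * (((∑ a, W.ind a * (χ : G → ℂ) a) / (χ : G → ℂ) 1) ^ 2 *
        (χ : G → ℂ) ((u : G) * y R)) := by
    intro χ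
    have h1 : (χ : G → ℂ) 1 ≠ 0 := Char.IsIrrCharacter.apply_one_ne_zero χ.2
    simp only [← Finset.mul_sum, F, avg, A]
    field_simp
  have hsum : ∑ u : ↥W.D, ∑ a, ∑ b,
      (if a * b * ((u : G) * y R) = 1 then W.ind a * W.ind b else 0) =
      (Nat.card (Pairs R) : ℂ) := by
    rw [Finset.sum_comm, Finset.sum_congr rfl fun a _ => Finset.sum_comm]
    have hin : ∀ a b : G, (∑ u : ↥W.D,
        (if a * b * ((u : G) * y R) = 1 then W.ind a * W.ind b else 0)) =
        if W.Good a ∧ W.Good b ∧ (R.x * R.x)⁻¹ * (a * b) ∈ W.D then 1 else 0 := by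
      intro a b
      have hz : ∀ u : ↥W.D, a * b * ((u : G) * y R) = 1 ↔ (R.x * R.x)⁻¹ * (a * b) = (u : G)⁻¹ := by
        intro u
        rw [mul_eq_one_iff_eq_inv, mul_inv_rev, y, inv_inv, inv_mul_eq_iff_eq_mul]
      by_cases hgab : W.Good a ∧ W.Good b
      · simp only [ind, if_pos hgab.1, if_pos hgab.2, mul_one, hz]
        by_cases hm : (R.x * R.x)⁻¹ * (a * b) ∈ W.D
        · rw [if_pos ⟨hgab.1, hgab.2, hm⟩, Finset.sum_eq_single (⟨_, W.D.inv_mem hm⟩ : ↥W.D)]
          · exact if_pos (inv_inv _).symm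
          · intro u _ hu
            refine if_neg fun h => hu (Subtype.ext ?_)
            show (u : G) = ((R.x * R.x)⁻¹ * (a * b))⁻¹
            simp only [h, inv_inv]
          · exact fun h => absurd (Finset.mem_univ _) h
        · rw [if_neg fun h => hm h.2.2]
          refine Finset.sum_eq_zero fun u _ => if_neg fun h => hm ?_
          rw [h]
          exact W.D.inv_mem u.2
      · rw [if_neg fun h => hgab ⟨h.1, h.2.1⟩]
        refine Finset.sum_eq_zero fun u _ => ?_
        rcases not_and_or.1 hgab with h | h <;> simp [ind, h]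
    simp only [hin]
    rw [← Fintype.sum_prod_type' (f := fun a b : G =>
      if W.Good a ∧ W.Good b ∧ (R.x * R.x)⁻¹ * (a * b) ∈ W.D then (1 : ℂ) else 0),
      Finset.sum_boole, Nat.card_eq_fintype_card, Fintype.card_subtype]
  rw [Finset.sum_congr rfl fun χ _ => e χ, ← Finset.mul_sum, Finset.sum_comm,
    Finset.sum_congr rfl fun (u : ↥W.D) _ => sum_degree_mul_sq_mul_apply W.isClassFunction_ind ((u : G) * y R),
    ← Finset.mul_sum, hsum]
  have hG : (Nat.card G : ℂ) = (W.q : ℂ) * Nat.card ↥W.D * (W.P : Subgroup G).index := by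
    rw [← Subgroup.card_mul_index (W.P : Subgroup G), W.P.card_eq_multiplicity, W.card_D, q, expo]
    have := W.delta_lt_expo
    unfold expo at this
    push_cast
    rw [← pow_add, Nat.sub_add_cancel this.le]
  rw [hG]
  field_simp

theorem odd_index : Odd (W.P : Subgroup G).index :=
  Nat.not_even_iff_odd.1 fun h => W.P.not_dvd_index h.two_dvd

variable {k : ℕ}

theorem F_twist (hk : k.Coprime (Nat.card G))
    (hk₁ : ∀ g : G, (∃ j : ℕ, orderOf g = 2 ^ j) → g ^ k = g)
    (hk₂ : ∀ g : G, Odd (orderOf g) → g ^ k = g⁻¹) (χ : IrrCharacter G) :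
    F R (GaloisPow.powIrr hk χ : G → ℂ) = F R (χ : G → ℂ) := by
  classical
  have hA : W.A (GaloisPow.powIrr hk χ : G → ℂ) = W.A (χ : G → ℂ) := by
    refine Fintype.sum_equiv (Equiv.inv G) _ _ fun a => ?_
    by_cases ha : W.Good a
    · simp only [ind, if_pos ha, Equiv.inv_apply, if_pos (W.good_inv ha), GaloisPow.powIrr_apply,
        hk₂ a ha.1]
    · have : ¬ W.Good a⁻¹ := fun h => ha (by simpa using W.good_inv h)
      simp [ind, ha, this]
  have havg : avg R (GaloisPow.powIrr hk χ : G → ℂ) = avg R (χ : G → ℂ) := by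
    unfold avg
    congr 1
    refine Finset.sum_congr rfl fun u _ => ?_
    obtain ⟨i, hi⟩ := W.isPGroup_D u
    have hu : (u : G) ^ k = u := by
      refine hk₁ _ ?_
      obtain ⟨j, -, hj⟩ := (Nat.dvd_prime_pow Nat.prime_two).1 (orderOf_dvd_of_pow_eq_one hi)
      exact ⟨j, by rw [Subgroup.orderOf_coe, hj]⟩
    have hy : (y R) ^ k = (y R)⁻¹ := by
      refine hk₂ _ ?_
      rw [y, orderOf_inv]
      exact Odd.of_dvd_nat R.hxo
        (orderOf_dvd_of_pow_eq_one (by rw [← pow_two, pow_right_comm, pow_orderOf_eq_one, one_pow]))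
    rw [GaloisPow.powIrr_apply, (commute_y R u.2).mul_pow, hu, hy]
    have h := Char.IsCharacter.isClassFunction (Char.IsIrrCharacter.isCharacter χ.2)
      ((u : G) * (y R)⁻¹) R.t
    have e : R.t * ((u : G) * (y R)⁻¹) * R.t⁻¹ = (u : G) * y R := by
      have h1 : Commute (u : G) R.t := W.commute_of_mem R.ht.1 u.2
      calc R.t * ((u : G) * (y R)⁻¹) * R.t⁻¹ = (R.t * (u : G)) * (y R)⁻¹ * R.t⁻¹ := by group
        _ = (u : G) * (R.t * (y R)⁻¹ * R.t⁻¹) := by rw [← h1.eq]; group
        _ = (u : G) * y R := by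
            have h2 := conj_t_xx R
            rw [show R.t * (y R)⁻¹ * R.t⁻¹ = (R.t * (R.x * R.x)⁻¹ * R.t⁻¹)⁻¹ by
              rw [y]; group, h2, y]
    rw [e] at h
    exact h.symm
  simp only [F, hA, havg, GaloisPow.powIrr_apply, one_pow]

theorem exists_even_fixed_aux {M : Ideal AlgInt} (hM : IsPModular 2 M) (R : W.Rep)
    (hk₁ : ∀ g : G, (∃ j : ℕ, orderOf g = 2 ^ j) → g ^ k = g)
    (hk₂ : ∀ g : G, Odd (orderOf g) → g ^ k = g⁻¹) :
    ∃ χ : IrrCharacter G, Even (charDegree (χ : G → ℂ)) ∧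
      ∀ g : G, (χ : G → ℂ) (g ^ k) = (χ : G → ℂ) g := by
  classical
  have := Fintype.ofFinite (IrrCharacter G)
  have hkk := pow_twist_twist hk₁ hk₂
  have hk := coprime_of_pow_twist_twist hkk
  by_contra hcon
  have hR : ∀ χ : IrrCharacter G, MemLocalRing M (F R (χ : G → ℂ)) := fun χ =>
    memR_of_isIntegral hM (isIntegral_F R χ.2)
  have hS : MemLocalIdeal M (∑ χ : IrrCharacter G, F R (χ : G → ℂ)) := by
    refine RealBlock.memI_sum_of_involution hM (GaloisPow.powIrr hk) (fun χ => Subtype.ext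
      (funext fun g => by simp only [GaloisPow.powIrr_apply, ← pow_mul, hkk])) _
      (fun χ hχ => ?_) (fun χ => ?_)
    · have hchar := Char.IsIrrCharacter.isCharacter χ.2
      have hodd : Odd (charDegree (χ : G → ℂ)) := Nat.not_even_iff_odd.1 fun he =>
        hcon ⟨χ, he, fun g => by
          conv_rhs => rw [← hχ]
          rfl⟩
      have h1 : (χ : G → ℂ) 1 ≠ 0 := Char.IsIrrCharacter.apply_one_ne_zero χ.2
      have hd : ¬ MemLocalIdeal M ((χ : G → ℂ) 1) := by
        rw [← RealBlock.charDegree_cast hchar, memI_natCast hM]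
        exact hodd.not_two_dvd_nat
      have hω : MemLocalRing M (W.A (χ : G → ℂ) / (χ : G → ℂ) 1) :=
        memR_of_isIntegral hM (W.isIntegral_A_div_degree χ.2)
      have hωI : MemLocalIdeal M (W.A (χ : G → ℂ) / (χ : G → ℂ) 1) := by
        refine (memI_or_memI hM hω (memR_of_isIntegral hM (Char.IsCharacter.isIntegral hchar 1))
          ?_).resolve_right hd
        rw [div_mul_cancel₀ _ h1, ← mul_div_cancel₀ (W.A (χ : G → ℂ)) W.q_ne_zero]
        refine memI_mul_right hM ((memI_natCast hM).2 ?_)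
          (memR_of_isIntegral hM (W.isIntegral_A_div_q hchar))
        exact dvd_pow_self 2 (by have := W.delta_lt_expo; omega)
      show MemLocalIdeal M (_ * _ * _)
      rw [mul_assoc]
      exact memI_mul_right hM hωI (memR_mul hM (memR_of_isIntegral hM (W.isIntegral_A_div_q hchar))
        (memR_of_isIntegral hM (isIntegral_avg R hchar)))
    · rw [F_twist R hk hk₁ hk₂, ← two_mul]
      exact memI_mul_right hM (by simpa using memI_p hM) (hR χ)
  rw [sum_F, ← Nat.cast_mul, memI_natCast hM] at hS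
  exact ((odd_index (W := W)).mul (odd_card_pairs R)).not_two_dvd_nat hS

end Pair

/-- A character of even degree fixed by the twist. -/
theorem exists_even_fixed {M : Ideal AlgInt} (hM : IsPModular 2 M)
    (hcomm : ∀ R : Sylow 2 G, IsMulCommutative (R : Subgroup G))
    (hne : ∃ R R' : Sylow 2 G, R ≠ R') {k : ℕ}
    (hk₁ : ∀ g : G, (∃ j : ℕ, orderOf g = 2 ^ j) → g ^ k = g)
    (hk₂ : ∀ g : G, Odd (orderOf g) → g ^ k = g⁻¹) :
    ∃ χ : IrrCharacter G, Even (charDegree (χ : G → ℂ)) ∧
      ∀ g : G, (χ : G → ℂ) (g ^ k) = (χ : G → ℂ) g := by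
  obtain ⟨W⟩ := exists_pair hcomm hne
  obtain ⟨R⟩ := W.nonempty_rep
  exact Pair.exists_even_fixed_aux hM R hk₁ hk₂

/-- In even order a twist of order two fixes a nonprincipal member of the principal 2-block. -/
theorem exists_principal_fixed {M : Ideal AlgInt} (hM : IsPModular 2 M)
    (heven : 2 ∣ Nat.card G) {k : ℕ} (hkk : ∀ g : G, g ^ (k * k) = g) :
    ∃ χ ∈ principalBlock M G, (χ : G → ℂ) ≠ (fun _ => 1) ∧
      ∀ g : G, (χ : G → ℂ) (g ^ k) = (χ : G → ℂ) g := by
  classical
  have := Fintype.ofFinite (IrrCharacter G)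
  have hk := coprime_of_pow_twist_twist hkk
  set w : IrrCharacter G → ℕ := fun χ =>
    if χ ∈ principalBlock M G then charDegree (χ : G → ℂ) * charDegree (χ : G → ℂ) else 0 with hw
  by_contra hcon
  have hinvol : ∀ χ : IrrCharacter G, GaloisPow.powIrr hk (GaloisPow.powIrr hk χ) = χ := fun χ =>
    Subtype.ext (funext fun g => by simp only [GaloisPow.powIrr_apply, ← pow_mul, hkk])
  have hw' : ∀ χ, w (GaloisPow.powPerm hk χ) = w χ := fun χ => by
    have hiff : GaloisPow.powIrr hk χ ∈ principalBlock M G ↔ χ ∈ principalBlock M G :=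
      ⟨fun h => by simpa [hinvol] using RealBlock.powIrr_mem_principal hk h,
        RealBlock.powIrr_mem_principal hk⟩
    show w (GaloisPow.powIrr hk χ) = w χ
    have hd : charDegree (GaloisPow.powIrr hk χ : G → ℂ) = charDegree (χ : G → ℂ) := by
      simp only [charDegree, GaloisPow.powIrr_apply, one_pow]
    simp only [hw, hiff, hd]
  have h := RealBlock.sum_modEq_fixed (GaloisPow.powPerm hk) (m := 1)
    (GaloisPow.powPerm_pow_eq_one hk (by intro g; rw [pow_one, pow_two]; exact hkk g)) w hw'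
  have hfix : ∑ χ ∈ Finset.univ.filter (fun χ => GaloisPow.powPerm hk χ = χ), w χ = 1 := by
    rw [Finset.sum_eq_single (RealBlock.oneChar G)]
    · rw [hw]
      simp only
      rw [if_pos (RealBlock.oneChar_mem hM)]
      simp [charDegree, RealBlock.oneChar]
    · intro χ hχ hne
      simp only [hw]
      refine if_neg fun hmem => hcon ⟨χ, hmem, fun h1 => hne (Subtype.ext h1), fun g => ?_⟩
      have h2 : GaloisPow.powIrr hk χ = χ := (Finset.mem_filter.1 hχ).2
      exact congrFun (congrArg Subtype.val h2) g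
    · refine fun h => absurd ?_ h
      rw [Finset.mem_filter]
      exact ⟨Finset.mem_univ _, Subtype.ext (funext fun g => rfl)⟩
  rw [hfix] at h
  have hI : MemLocalIdeal M ((∑ χ, w χ : ℕ) : ℂ) := by
    have := Fintype.ofFinite ↥(⊥ : Subgroup G)
    have hs := RealBlock.sum_mult_principal hM (⊥ : Subgroup G) IsPGroup.of_bot (fun _ => (1 : ℂ))
    rw [Subgroup.index_bot, mul_one] at hs
    have e : ((∑ χ, w χ : ℕ) : ℂ) = ∑ χ ∈ Finset.univ.filter (· ∈ principalBlock M G),
        (χ : G → ℂ) 1 * classInner (fun _ => (1 : ℂ)) (fun u : ↥(⊥ : Subgroup G) => (χ : G → ℂ) u) := by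
      rw [Nat.cast_sum, Finset.sum_filter]
      refine Finset.sum_congr rfl fun χ _ => ?_
      simp only [hw]
      split_ifs
      · rw [classInner, Fintype.sum_subsingleton _ (1 : ↥(⊥ : Subgroup G)), Subgroup.card_bot,
          Nat.cast_mul, RealBlock.charDegree_cast (Char.IsIrrCharacter.isCharacter χ.2)]
        simp [Char.IsCharacter.conj_apply_one (Char.IsIrrCharacter.isCharacter χ.2)]
      · simp
    rw [e, hs]
    exact memI_mul_right hM ((memI_natCast hM).2 heven)
      (memR_blockCoeff hM RealBlock.isPBlock_principalBlock 1)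
  rw [memI_natCast hM] at hI
  have : Odd (∑ χ, w χ) := Nat.odd_iff.2 (by unfold Nat.ModEq at h; omega)
  exact this.not_two_dvd_nat hI

end Cfsg.Agent.RealEvenChar
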