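import Mathlib

/-!
# Two Sylow 2-subgroups with largest intersection, abelian case

Let all Sylow 2-subgroups of `G` be commutative and let `P ≠ Q` be two of them whose intersection
`D` is as large as possible.  For `t ∈ P` and `s ∉ P` of order two modulo `D` in `C(D)` the product
`s * t` has odd order modulo `D`; its odd-order representative `x` is inverted by `t` and has
centraliser of 2-part `|D|`.
-/

set_option autoImplicit false

namespace Cfsg.Agent.RealEvenChar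

open Subgroup

variable {G : Type*} [Group G] [Finite G]

/-- Two different Sylow 2-subgroups with intersection of largest order, all of them commutative. -/
structure Pair (G : Type*) [Group G] where
  P : Sylow 2 G
  Q : Sylow 2 G
  ne : P ≠ Q
  comm : ∀ R : Sylow 2 G, ∀ a ∈ (R : Subgroup G), ∀ b ∈ (R : Subgroup G), a * b = b * a
  max : ∀ R R' : Sylow 2 G, R ≠ R' →
    Nat.card ↥((R : Subgroup G) ⊓ R') ≤ Nat.card ↥((P : Subgroup G) ⊓ Q)

theorem exists_pair (hcomm : ∀ R : Sylow 2 G, IsMulCommutative (R : Subgroup G))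
    (h : ∃ R R' : Sylow 2 G, R ≠ R') : Nonempty (Pair G) := by
  classical
  obtain ⟨R, R', hne⟩ := h
  have : Fintype (Sylow 2 G × Sylow 2 G) := Fintype.ofFinite _
  obtain ⟨⟨P, Q⟩, hmem, hmax⟩ := Finset.exists_max_image
    (Finset.univ.filter fun r : Sylow 2 G × Sylow 2 G => r.1 ≠ r.2)
    (fun r => Nat.card ↥((r.1 : Subgroup G) ⊓ r.2)) ⟨(R, R'), by simp [hne]⟩
  exact ⟨⟨P, Q, by simpa using hmem,
    fun R a ha b hb => congrArg Subtype.val ((hcomm R).is_comm.comm ⟨a, ha⟩ ⟨b, hb⟩),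
    fun S S' hS => hmax (S, S') (by simp [hS])⟩⟩

/-- An element of a finite group has a power that is a 2-element with odd exponent. -/
theorem exists_odd_exponent (w : G) : ∃ e m : ℕ, Odd m ∧ orderOf w = 2 ^ e * m := by
  obtain ⟨e, m, hm, h⟩ := Nat.exists_eq_pow_mul_and_not_dvd (orderOf_pos w).ne' 2 (by norm_num)
  exact ⟨e, m, Nat.not_even_iff_odd.1 fun hh => hm hh.two_dvd, h⟩

omit [Finite G] in
theorem isPGroup_zpowers {w : G} {e : ℕ} (h : w ^ 2 ^ e = 1) :
    IsPGroup 2 ↥(Subgroup.zpowers w) := by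
  obtain ⟨i, -, hi⟩ := (Nat.dvd_prime_pow Nat.prime_two).1 (orderOf_dvd_of_pow_eq_one h)
  exact IsPGroup.of_card (n := i) (by rw [Nat.card_zpowers, hi])

omit [Finite G] in
theorem isPGroup_sup_zpowers {H : Subgroup G} (hH : IsPGroup 2 ↥H) {w : G} {e : ℕ}
    (hw : w ^ 2 ^ e = 1) (hn : w ∈ normalizer (H : Set G)) :
    IsPGroup 2 ↥(H ⊔ Subgroup.zpowers w) := by
  rw [sup_comm]
  exact IsPGroup.to_sup_of_normal_right' (isPGroup_zpowers hw) hH (Subgroup.zpowers_le.2 hn)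

namespace Pair

variable (W : Pair G)

/-- The intersection. -/
abbrev D : Subgroup G := (W.P : Subgroup G) ⊓ W.Q

/-- The centraliser of the intersection. -/
abbrev C : Subgroup G := centralizer (W.D : Set G)

omit [Finite G] in
theorem isPGroup_D : IsPGroup 2 ↥W.D := W.P.isPGroup'.to_le inf_le_left

omit [Finite G] in
theorem P_le_C : (W.P : Subgroup G) ≤ W.C := fun a ha =>
  mem_centralizer_iff.2 fun u hu => W.comm W.P u hu.1 a ha

omit [Finite G] in
theorem Q_le_C : (W.Q : Subgroup G) ≤ W.C := fun a ha =>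
  mem_centralizer_iff.2 fun u hu => W.comm W.Q u hu.2 a ha

omit [Finite G] in
theorem D_le_C : W.D ≤ W.C := inf_le_left.trans W.P_le_C

omit [Finite G] in
theorem commute_of_mem {a u : G} (ha : a ∈ W.C) (hu : u ∈ W.D) : Commute u a :=
  mem_centralizer_iff.1 ha u hu

omit [Finite G] in
theorem mem_normalizer_D {a : G} (ha : a ∈ W.C) : a ∈ normalizer (W.D : Set G) := by
  rw [mem_normalizer_iff]
  intro u
  constructor
  · intro hu
    rwa [← (W.commute_of_mem ha hu).eq, mul_inv_cancel_right]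
  · intro hu
    have h := (W.commute_of_mem (W.C.inv_mem ha) hu).eq
    have : u = a * u * a⁻¹ := by
      calc u = a⁻¹ * (a * u * a⁻¹) * a := by group
        _ = (a * u * a⁻¹) * a⁻¹ * a := by rw [h]
        _ = a * u * a⁻¹ := by group
    rwa [this]

/-- Sylow subgroups above `D` share nothing outside `D`. -/
theorem eq_of_common {R R' : Sylow 2 G} (hR : W.D ≤ R) (hR' : W.D ≤ R') {e : G}
    (he : e ∈ (R : Subgroup G)) (he' : e ∈ (R' : Subgroup G)) (heD : e ∉ W.D) : R = R' := by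
  by_contra h
  have hle : W.D ≤ (R : Subgroup G) ⊓ R' := le_inf hR hR'
  have hne : W.D ≠ (R : Subgroup G) ⊓ R' := fun hh => heD (hh ▸ ⟨he, he'⟩)
  exact hne (Subgroup.eq_of_le_of_card_ge hle (W.max R R' h))

/-- A Sylow subgroup containing `D` and an element of `P` outside `D` is `P`. -/
theorem eq_P {R : Sylow 2 G} (hR : W.D ≤ R) {e : G} (he : e ∈ (R : Subgroup G))
    (heP : e ∈ (W.P : Subgroup G)) (heD : e ∉ W.D) : R = W.P :=
  W.eq_of_common hR inf_le_left he heP heD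

omit [Finite G] in
theorem pow_two_pow_of_sq {a : G} (h2 : a * a ∈ W.D) : ∃ e : ℕ, a ^ 2 ^ e = 1 := by
  obtain ⟨k, hk⟩ := W.isPGroup_D ⟨a * a, h2⟩
  refine ⟨k + 1, ?_⟩
  have := congrArg Subtype.val hk
  rw [pow_succ', pow_mul, pow_two]
  simpa using this

/-- A Sylow subgroup containing `D` and a given 2-element of `C(D)`. -/
theorem exists_sylow_with {a : G} (ha : a ∈ W.C) {e : ℕ} (he : a ^ 2 ^ e = 1) :
    ∃ R : Sylow 2 G, W.D ≤ R ∧ a ∈ (R : Subgroup G) := by
  obtain ⟨R, hR⟩ := (isPGroup_sup_zpowers W.isPGroup_D he (W.mem_normalizer_D ha)).exists_le_sylow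
  exact ⟨R, le_sup_left.trans hR, hR (le_sup_right (a := W.D) (Subgroup.mem_zpowers a))⟩

/-- Order two modulo `D`, inside `C(D)`. -/
def Two (a : G) : Prop := a ∈ W.C ∧ a * a ∈ W.D ∧ a ∉ W.D

/-- A Sylow subgroup over `D` containing a 2-element `z` of `C(D)` and `a`, when `a` normalises
`D ⊔ ⟨z⟩`. -/
theorem exists_sylow_pair {z a : G} (hz : z ∈ W.C) {i j : ℕ} (hzi : z ^ 2 ^ i = 1)
    (ha : a ∈ W.C) (haj : a ^ 2 ^ j = 1) {d : G} (hd : d ∈ W.D) (hconj : a * z * a⁻¹ = d * z⁻¹) :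
    ∃ R : Sylow 2 G, W.D ≤ R ∧ z ∈ (R : Subgroup G) ∧ a ∈ (R : Subgroup G) := by
  have hH := isPGroup_sup_zpowers W.isPGroup_D hzi (W.mem_normalizer_D hz)
  have hn : a ∈ normalizer ((W.D ⊔ Subgroup.zpowers z : Subgroup G) : Set G) := by
    rw [mem_normalizer_iff_map_conj_eq]
    have hfin : Finite ↥(W.D ⊔ Subgroup.zpowers z : Subgroup G) := inferInstance
    refine Subgroup.eq_of_le_of_card_ge ?_ ?_
    · rw [Subgroup.map_sup, sup_le_iff]
      constructor
      · rintro _ ⟨u, hu, rfl⟩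
        refine Subgroup.mem_sup_left ?_
        show a * u * a⁻¹ ∈ W.D
        rwa [← (W.commute_of_mem ha hu).eq, mul_inv_cancel_right]
      · rw [MonoidHom.map_zpowers, Subgroup.zpowers_le]
        show a * z * a⁻¹ ∈ _
        rw [hconj]
        exact Subgroup.mul_mem _ (Subgroup.mem_sup_left hd)
          (Subgroup.inv_mem _ (Subgroup.mem_sup_right (Subgroup.mem_zpowers z)))
    · rw [Subgroup.card_map_of_injective (MulAut.conj a).injective]
  obtain ⟨R, hR⟩ := (isPGroup_sup_zpowers hH haj hn).exists_le_sylow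
  exact ⟨R, le_sup_left.trans (le_sup_left.trans hR),
    hR (Subgroup.mem_sup_left (Subgroup.mem_sup_right (Subgroup.mem_zpowers z))),
    hR (Subgroup.mem_sup_right (Subgroup.mem_zpowers a))⟩

variable {s t : G}

omit [Finite G] in
/-- Powers of `d * w` for `d` commuting with `w`. -/
theorem pow_conj {a w d : G} (hd : Commute d w⁻¹) (h : a * w * a⁻¹ = d * w⁻¹) (m : ℕ) :
    a * w ^ m * a⁻¹ = d ^ m * (w ^ m)⁻¹ := by
  rw [← conj_pow, h, hd.mul_pow, inv_pow]

omit [Finite G] in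
theorem conj_prod (hs : W.Two s) (ht : W.Two t) :
    t * (s * t) * t⁻¹ = (t * t * (s * s)) * (s * t)⁻¹ ∧
      s * (s * t) * s⁻¹ = (t * t * (s * s)) * (s * t)⁻¹ := by
  have e1 : (t * t * (s * s)) * (s * t)⁻¹ = t * s := by
    have h : Commute (t * t) (s * t) := W.commute_of_mem (W.C.mul_mem hs.1 ht.1) ht.2.1
    have h' : Commute (s * s) (t⁻¹) := W.commute_of_mem (W.C.inv_mem ht.1) hs.2.1
    calc t * t * (s * s) * (s * t)⁻¹ = t * t * ((s * s) * t⁻¹) * s⁻¹ := by group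
      _ = t * t * (t⁻¹ * (s * s)) * s⁻¹ := by rw [h'.eq]
      _ = t * s := by group
  constructor
  · rw [e1]; group
  · rw [e1]
    have h' : Commute (s * s) t := W.commute_of_mem ht.1 hs.2.1
    calc s * (s * t) * s⁻¹ = (s * s) * t * s⁻¹ := by group
      _ = t * (s * s) * s⁻¹ := by rw [h'.eq]
      _ = t * s := by group

/-- The 2-part of `s * t` lies in `D`. -/
theorem pow_odd_mem (hs : W.Two s) (hsP : s ∉ (W.P : Subgroup G)) (ht : W.Two t)
    (htP : t ∈ (W.P : Subgroup G)) {e m : ℕ} (h : orderOf (s * t) = 2 ^ e * m) :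
    (s * t) ^ m ∈ W.D := by
  by_contra hz
  obtain ⟨i, hi⟩ := W.pow_two_pow_of_sq hs.2.1
  obtain ⟨j, hj⟩ := W.pow_two_pow_of_sq ht.2.1
  have hwC : s * t ∈ W.C := W.C.mul_mem hs.1 ht.1
  have hzC : (s * t) ^ m ∈ W.C := W.C.pow_mem hwC m
  have hzi : ((s * t) ^ m) ^ 2 ^ e = 1 := by
    rw [← pow_mul, mul_comm, ← h, pow_orderOf_eq_one]
  have hd : t * t * (s * s) ∈ W.D := W.D.mul_mem ht.2.1 hs.2.1
  have hdw : Commute (t * t * (s * s)) (s * t)⁻¹ := W.commute_of_mem (W.C.inv_mem hwC) hd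
  obtain ⟨h1, h2⟩ := W.conj_prod hs ht
  obtain ⟨R, hRD, hzR, htR⟩ :=
    W.exists_sylow_pair hzC hzi ht.1 hj (W.D.pow_mem hd m) (pow_conj hdw h1 m)
  obtain ⟨R', hR'D, hzR', hsR'⟩ :=
    W.exists_sylow_pair hzC hzi hs.1 hi (W.D.pow_mem hd m) (pow_conj hdw h2 m)
  have hRP : R = W.P := W.eq_P hRD htR htP ht.2.2
  have : R = R' := W.eq_of_common hRD hR'D hzR hzR' hz
  exact hsP (by rw [← hRP, this]; exact hsR')

omit [Finite G] in
/-- Elements of odd order of `C(D)` in one coset of `D` coincide. -/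
theorem eq_of_odd {a b : G} (ha : a ∈ W.C) (hoa : Odd (orderOf a)) (hob : Odd (orderOf b))
    (h : a⁻¹ * b ∈ W.D) : a = b := by
  set u := a⁻¹ * b with hu
  have hc : Commute a u := (W.commute_of_mem ha h).symm
  obtain ⟨k, hk⟩ := W.isPGroup_D ⟨u, h⟩
  have hk' : u ^ 2 ^ k = 1 := by simpa using congrArg Subtype.val hk
  obtain ⟨i, -, hi⟩ := (Nat.dvd_prime_pow Nat.prime_two).1 (orderOf_dvd_of_pow_eq_one hk')
  have hco : (orderOf a).Coprime (orderOf u) := by
    rw [hi]; exact (Nat.coprime_two_right.2 hoa).pow_right _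
  have hb : b = a * u := by rw [hu]; group
  rw [hb, hc.orderOf_mul_eq_mul_orderOf_of_coprime hco] at hob
  rcases i.eq_zero_or_pos with rfl | hi0
  · rw [pow_zero, orderOf_eq_one_iff] at hi
    rw [hb, hi, mul_one]
  · exact absurd (hi ▸ (Nat.Odd.of_mul_right hob)) (by
      rw [Nat.not_odd_iff_even]; exact (Nat.even_pow).2 ⟨even_two, hi0.ne'⟩)

/-- The representative of odd order of the coset of `s * t`. -/
theorem exists_odd_rep (hs : W.Two s) (hsP : s ∉ (W.P : Subgroup G)) (ht : W.Two t)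
    (htP : t ∈ (W.P : Subgroup G)) :
    ∃ x : G, x ∈ W.C ∧ Odd (orderOf x) ∧ x⁻¹ * (s * t) ∈ W.D ∧ t * x * t⁻¹ = x⁻¹ ∧ x ≠ 1 := by
  obtain ⟨e, m, hm, h⟩ := exists_odd_exponent (s * t)
  have hzD := W.pow_odd_mem hs hsP ht htP h
  have hwC : s * t ∈ W.C := W.C.mul_mem hs.1 ht.1
  have hcop : Nat.gcd (2 ^ e) m = 1 := Nat.Coprime.pow_left e (Nat.coprime_two_left.2 hm)
  have hbez := Nat.gcd_eq_gcd_ab (2 ^ e) m
  rw [hcop] at hbez
  set a := (2 ^ e).gcdA m
  set b := (2 ^ e).gcdB m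
  set x := (s * t) ^ (((2 ^ e : ℕ) : ℤ) * a) with hx
  have hxC : x ∈ W.C := W.C.zpow_mem hwC _
  have hxm : x ^ m = 1 := by
    rw [hx, ← zpow_natCast, ← zpow_mul,
      show ((2 ^ e : ℕ) : ℤ) * a * (m : ℤ) = ((2 ^ e * m : ℕ) : ℤ) * a by push_cast; ring,
      zpow_mul, zpow_natCast, ← h, pow_orderOf_eq_one, one_zpow]
  have hxo : Odd (orderOf x) := Odd.of_dvd_nat hm (orderOf_dvd_of_pow_eq_one hxm)
  have hxD : x⁻¹ * (s * t) ∈ W.D := by
    have : x⁻¹ * (s * t) = ((s * t) ^ m) ^ b := by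
      rw [hx, ← zpow_natCast (s * t) m, ← zpow_mul, ← zpow_neg]
      calc (s * t) ^ (-(((2 ^ e : ℕ) : ℤ) * a)) * (s * t)
          = (s * t) ^ (-(((2 ^ e : ℕ) : ℤ) * a) + 1) := (zpow_add_one _ _).symm
        _ = _ := by congr 1; push_cast at hbez ⊢; omega
    rw [this]
    exact W.D.zpow_mem hzD b
  refine ⟨x, hxC, hxo, hxD, ?_, ?_⟩
  · refine W.eq_of_odd (W.C.mul_mem (W.C.mul_mem ht.1 hxC) (W.C.inv_mem ht.1)) ?_ ?_ ?_
    · rwa [← MulAut.conj_apply, MulEquiv.orderOf_eq]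
    · rwa [orderOf_inv]
    · set u := x⁻¹ * (s * t) with hu
      have hw : s * t = x * u := by rw [hu]; group
      have hc := (W.conj_prod hs ht).1
      rw [hw] at hc
      have h1 : Commute u t⁻¹ := W.commute_of_mem (W.C.inv_mem ht.1) hxD
      have h2 : Commute u⁻¹ x⁻¹ := W.commute_of_mem (W.C.inv_mem hxC) (W.D.inv_mem hxD)
      have h3 : t * x * t⁻¹ = (t * t * (s * s)) * (x⁻¹ * u⁻¹) * u⁻¹ := by
        have : t * (x * u) * t⁻¹ = t * x * t⁻¹ * u := by
          calc t * (x * u) * t⁻¹ = t * x * (u * t⁻¹) := by group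
            _ = t * x * (t⁻¹ * u) := by rw [h1.eq]
            _ = t * x * t⁻¹ * u := by group
        rw [this, mul_inv_rev, h2.eq] at hc
        rw [← hc]; group
      set d₁ := t * t * (s * s) with hd₁
      have hd₁D : d₁ ∈ W.D := W.D.mul_mem ht.2.1 hs.2.1
      have h4 : d₁ * x⁻¹ = x⁻¹ * d₁ := (W.commute_of_mem (W.C.inv_mem hxC) hd₁D).eq
      have h5 : (t * x * t⁻¹)⁻¹ * x⁻¹ = u * u * d₁⁻¹ := by
        have h6 : t * x * t⁻¹ = x⁻¹ * (d₁ * u⁻¹ * u⁻¹) := by
          rw [h3]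
          calc d₁ * (x⁻¹ * u⁻¹) * u⁻¹ = (d₁ * x⁻¹) * u⁻¹ * u⁻¹ := by group
            _ = (x⁻¹ * d₁) * u⁻¹ * u⁻¹ := by rw [h4]
            _ = _ := by group
        rw [h6]
        have h7 : Commute (u * u * d₁⁻¹) x⁻¹ := W.commute_of_mem (W.C.inv_mem hxC)
          (W.D.mul_mem (W.D.mul_mem hxD hxD) (W.D.inv_mem hd₁D))
        calc (x⁻¹ * (d₁ * u⁻¹ * u⁻¹))⁻¹ * x⁻¹ = (u * u * d₁⁻¹) * x * x⁻¹ := by
              simp [mul_inv_rev, mul_assoc]
          _ = u * u * d₁⁻¹ := mul_inv_cancel_right _ _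
      rw [h5]
      exact W.D.mul_mem (W.D.mul_mem hxD hxD) (W.D.inv_mem hd₁D)
  · intro h1
    rw [h1, inv_one, one_mul] at hxD
    apply hsP
    have hmem : (s * t) * t⁻¹ ∈ (W.P : Subgroup G) :=
      (W.P : Subgroup G).mul_mem hxD.1 ((W.P : Subgroup G).inv_mem htP)
    rwa [mul_inv_cancel_right] at hmem

/-- The centraliser of the representative has 2-part of order `|D|`. -/
theorem le_D_of_twoGroup (hs : W.Two s) (hsP : s ∉ (W.P : Subgroup G)) (ht : W.Two t)
    (htP : t ∈ (W.P : Subgroup G)) {x : G} (hxD : x⁻¹ * (s * t) ∈ W.D)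
    (htx : t * x * t⁻¹ = x⁻¹) {R₂ : Subgroup G} (hR₂ : IsPGroup 2 ↥R₂)
    (hR₂x : R₂ ≤ centralizer ({x} : Set G)) (hDR₂ : W.D ≤ R₂) : R₂ ≤ W.D := by
  classical
  obtain ⟨R, hR⟩ := hR₂.exists_le_sylow
  have hR₂C : R₂ ≤ W.C := fun a ha =>
    mem_centralizer_iff.2 fun u hu => W.comm R u (hR (hDR₂ hu)) a (hR ha)
  set K := centralizer ({x} : Set G) ⊓ W.C with hK
  have htK : t ∈ normalizer (K : Set G) := by
    rw [mem_normalizer_iff]
    intro a
    have e : Commute x (t * a * t⁻¹) ↔ Commute x a := by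
      constructor
      · intro h
        have h' : Commute x⁻¹ (t * a * t⁻¹) := h.inv_left
        rw [← htx] at h'
        exact (Commute.conj_iff t).1 h'
      · intro h
        have h' := (Commute.conj_iff t).2 h.inv_left
        have e2 : t * x⁻¹ * t⁻¹ = x := by rw [← conj_inv, htx, inv_inv]
        rwa [e2] at h'
    simp only [hK, Subgroup.mem_inf, mem_centralizer_singleton_iff]
    refine and_congr ⟨fun h => (e.2 (show Commute x a from (h : Commute a x).symm)).symm.eq,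
      fun h => (e.1 (show Commute x _ from Commute.symm h)).symm.eq⟩ ?_
    exact ⟨fun h => W.C.mul_mem (W.C.mul_mem ht.1 h) (W.C.inv_mem ht.1), fun h => by
      have := W.C.mul_mem (W.C.mul_mem (W.C.inv_mem ht.1) h) ht.1
      simpa [mul_assoc] using this⟩
  obtain ⟨j, hj⟩ := W.pow_two_pow_of_sq ht.2.1
  set Ks := K ⊔ Subgroup.zpowers t with hKs
  have hKn : Ks ≤ normalizer (K : Set G) :=
    sup_le Subgroup.le_normalizer (Subgroup.zpowers_le.2 htK)
  have hR₂K : R₂ ≤ K := le_inf hR₂x hR₂C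
  have hKC : Ks ≤ W.C := sup_le inf_le_right (Subgroup.zpowers_le.2 ht.1)
  obtain ⟨E₀, hE₀⟩ := (hR₂.comap_of_injective Ks.subtype Ks.subtype_injective).exists_le_sylow
  have hA := isPGroup_sup_zpowers W.isPGroup_D hj (W.mem_normalizer_D ht.1)
  have hAK : W.D ⊔ Subgroup.zpowers t ≤ Ks :=
    sup_le (hDR₂.trans (hR₂K.trans le_sup_left)) le_sup_right
  obtain ⟨E, hE⟩ := (hA.comap_of_injective Ks.subtype Ks.subtype_injective).exists_le_sylow
  obtain ⟨g, hg⟩ := MulAction.exists_smul_eq ↥Ks E₀ E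
  obtain ⟨R', hR'⟩ := (E.isPGroup'.map Ks.subtype).exists_le_sylow
  have hDR' : W.D ≤ R' := fun u hu => hR' ⟨⟨u, hAK (Subgroup.mem_sup_left hu)⟩,
    hE (Subgroup.mem_comap.2 (Subgroup.mem_sup_left hu)), rfl⟩
  have htR' : t ∈ (R' : Subgroup G) := hR' ⟨⟨t, le_sup_right (a := K) (Subgroup.mem_zpowers t)⟩,
    hE (Subgroup.mem_comap.2 (Subgroup.mem_sup_right (Subgroup.mem_zpowers t))), rfl⟩
  have hR'P : R' = W.P := W.eq_P hDR' htR' htP ht.2.2
  intro a ha
  by_contra haD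
  set e := (g : G) * a * (g : G)⁻¹ with he
  have haKs : a ∈ Ks := le_sup_left (b := Subgroup.zpowers t) (hR₂K ha)
  have heP : e ∈ (W.P : Subgroup G) := by
    rw [← hR'P]
    refine hR' ⟨g * ⟨a, haKs⟩ * g⁻¹, ?_, rfl⟩
    rw [← hg, Sylow.coe_subgroup_smul]
    exact ⟨⟨a, haKs⟩, hE₀ (Subgroup.mem_comap.2 ha), rfl⟩
  have heK : e ∈ K := (mem_normalizer_iff.1 (hKn g.2) a).1 (hR₂K ha)
  have heD : e ∉ W.D := fun h => haD ((mem_normalizer_iff.1 (W.mem_normalizer_D (hKC g.2)) a).2 h)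
  have hex : Commute e x := mem_centralizer_singleton_iff.1 heK.1
  have hes : Commute e s := by
    have hu : Commute e (x⁻¹ * (s * t)) := (W.commute_of_mem heK.2 hxD).symm
    have het : Commute e t := W.comm W.P e heP t htP
    have := (hex.mul_right hu).mul_right het.inv_right
    simpa [mul_assoc] using this
  obtain ⟨i, hi⟩ := W.pow_two_pow_of_sq hs.2.1
  obtain ⟨k, hk⟩ := W.P.isPGroup' ⟨e, heP⟩
  have hk' : e ^ 2 ^ k = 1 := by simpa using congrArg Subtype.val hk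
  have hH := isPGroup_sup_zpowers W.isPGroup_D hk' (W.mem_normalizer_D heK.2)
  have hn : s ∈ normalizer ((W.D ⊔ Subgroup.zpowers e : Subgroup G) : Set G) := by
    refine (Subgroup.centralizer_le_normalizer _) ?_
    rw [mem_centralizer_iff]
    have : W.D ⊔ Subgroup.zpowers e ≤ centralizer ({s} : Set G) :=
      sup_le (fun u hu => mem_centralizer_singleton_iff.2 (W.commute_of_mem hs.1 hu).eq)
        (Subgroup.zpowers_le.2 (mem_centralizer_singleton_iff.2 hes.eq))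
    exact fun u hu => mem_centralizer_singleton_iff.1 (this hu)
  obtain ⟨R'', hR''⟩ := (isPGroup_sup_zpowers hH hi hn).exists_le_sylow
  have : R'' = W.P := W.eq_P (le_sup_left.trans (le_sup_left.trans hR''))
    (hR'' (Subgroup.mem_sup_left (Subgroup.mem_sup_right (Subgroup.mem_zpowers e)))) heP heD
  exact hsP (this ▸ hR'' (Subgroup.mem_sup_right (Subgroup.mem_zpowers s)))

/-- The exponent of `|D|`. -/
noncomputable def delta : ℕ := (Nat.card ↥W.D).factorization 2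

theorem card_D : Nat.card ↥W.D = 2 ^ W.delta := by
  obtain ⟨k, hk⟩ := IsPGroup.iff_card.1 W.isPGroup_D
  rw [delta, hk, Nat.Prime.factorization_pow Nat.prime_two, Finsupp.single_eq_same]

theorem factorization_centralizer (hs : W.Two s) (hsP : s ∉ (W.P : Subgroup G)) (ht : W.Two t)
    (htP : t ∈ (W.P : Subgroup G)) {x : G} (hxC : x ∈ W.C) (hxD : x⁻¹ * (s * t) ∈ W.D)
    (htx : t * x * t⁻¹ = x⁻¹) :
    (Nat.card ↥(centralizer ({x} : Set G))).factorization 2 = W.delta := by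
  have hDx : W.D ≤ centralizer ({x} : Set G) := fun u hu =>
    mem_centralizer_singleton_iff.2 (W.commute_of_mem hxC hu).eq
  obtain ⟨R₂, hR₂⟩ := (W.isPGroup_D.comap_of_injective (centralizer ({x} : Set G)).subtype
    (Subgroup.subtype_injective _)).exists_le_sylow
  set R := (R₂ : Subgroup ↥(centralizer ({x} : Set G))).map (centralizer ({x} : Set G)).subtype
  have hle : R ≤ W.D := W.le_D_of_twoGroup hs hsP ht htP hxD htx (R₂.isPGroup'.map _)
    (Subgroup.map_subtype_le _) fun u hu => ⟨⟨u, hDx hu⟩, hR₂ (Subgroup.mem_comap.2 hu), rfl⟩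
  have hge : W.D ≤ R := fun u hu => ⟨⟨u, hDx hu⟩, hR₂ (Subgroup.mem_comap.2 hu), rfl⟩
  have hcard : Nat.card ↥R = 2 ^ (Nat.card ↥(centralizer ({x} : Set G))).factorization 2 := by
    rw [Subgroup.card_map_of_injective (Subgroup.subtype_injective _)]
    exact R₂.card_eq_multiplicity
  rw [le_antisymm hle hge, W.card_D] at hcard
  exact (Nat.pow_right_injective le_rfl hcard).symm

omit [Finite G] in
theorem not_Q_le_P : ¬ (W.Q : Subgroup G) ≤ W.P := fun h =>
  W.ne (Sylow.ext ((W.Q.is_maximal' W.P.isPGroup' h)))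

omit [Finite G] in
theorem exists_two_of_le {R : Subgroup G} (hR : IsPGroup 2 ↥R) (hRC : R ≤ W.C)
    (hne : ¬ R ≤ W.D) : ∃ a ∈ R, W.Two a := by
  obtain ⟨a, ha, haD⟩ := SetLike.not_le_iff_exists.1 hne
  obtain ⟨k, hk⟩ := hR ⟨a, ha⟩
  have hk' : a ^ 2 ^ k ∈ W.D := by
    have : a ^ 2 ^ k = 1 := by simpa using congrArg Subtype.val hk
    rw [this]; exact W.D.one_mem
  clear hk
  induction k with
  | zero => exact absurd (by simpa using hk') haD
  | succ k ih =>
    by_cases h : a ^ 2 ^ k ∈ W.D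
    · exact ih h
    · refine ⟨a ^ 2 ^ k, R.pow_mem ha _, hRC (R.pow_mem ha _), ?_, h⟩
      rwa [← pow_add, ← two_mul, ← pow_succ']

omit [Finite G] in
/-- A starting pair `s`, `t`. -/
theorem exists_start : ∃ s t : G, W.Two s ∧ s ∉ (W.P : Subgroup G) ∧ W.Two t ∧
    t ∈ (W.P : Subgroup G) := by
  have h1 : ¬ (W.Q : Subgroup G) ≤ W.D := fun h => W.not_Q_le_P (h.trans inf_le_left)
  have h2 : ¬ (W.P : Subgroup G) ≤ W.D := fun h =>
    W.ne (Sylow.ext (W.P.is_maximal' W.Q.isPGroup' (h.trans inf_le_right))).symm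
  obtain ⟨s, hsQ, hs⟩ := W.exists_two_of_le W.Q.isPGroup' W.Q_le_C h1
  obtain ⟨t, htP, ht⟩ := W.exists_two_of_le W.P.isPGroup' W.P_le_C h2
  exact ⟨s, t, hs, fun h => hs.2.2 ⟨h, hsQ⟩, ht, htP⟩

theorem delta_lt : W.delta < (Nat.card G).factorization 2 := by
  obtain ⟨s, t, -, -, ht, htP⟩ := W.exists_start
  by_contra h
  have hP : Nat.card ↥(W.P : Subgroup G) ≤ Nat.card ↥W.D := by
    rw [W.card_D, W.P.card_eq_multiplicity]
    exact Nat.pow_le_pow_right (by norm_num) (not_lt.1 h)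
  have he : W.D = (W.P : Subgroup G) := Subgroup.eq_of_le_of_card_ge inf_le_left hP
  exact ht.2.2 (by rw [he]; exact htP)

end Pair

end Cfsg.Agent.RealEvenChar
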