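import Cfsg.Agent.Lib.RealEvenChar.Config

/-!
# The number of factorisations is odd

`good a`: odd order and centraliser of 2-part `|D|`.  The pairs of good elements with product in
`x² D` form a set of odd order: the conjugations by `D`, the swap `(a, b) ↦ ((b⁻¹)^t, (a⁻¹)^t)` and
`c ↦ c⁻¹` leave the involutions of `P / D` other than `t`, and the trivial coset.
-/

set_option autoImplicit false

namespace Cfsg.Agent.RealEvenChar

open Subgroup

variable {G : Type*} [Group G] [Finite G]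

/-- Fixed points of an involution have the same parity as the whole. -/
theorem card_modEq_fixed {α : Type*} [Finite α] (f : α → α) (hf : ∀ a, f (f a) = a) :
    Nat.card α ≡ Nat.card {a : α // f a = a} [MOD 2] := by
  classical
  have := Fintype.ofFinite α
  let F : Function.End α := f
  have h2 : F ^ 2 ^ 1 = 1 := by
    rw [pow_one, pow_two]
    funext a
    exact hf a
  have h := Equiv.Perm.card_fixedPoints_modEq (p := 2) (n := 1) (f := F) h2
  rw [← Nat.card_eq_fintype_card, ← Nat.card_eq_fintype_card] at h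
  exact h

namespace Pair

variable (W : Pair G)

/-- Odd order and centraliser of 2-part `|D|`. -/
def Good (a : G) : Prop :=
  Odd (orderOf a) ∧ (Nat.card ↥(centralizer ({a} : Set G))).factorization 2 = W.delta

omit [Finite G] in
theorem centralizer_inv_singleton (a : G) :
    centralizer ({a⁻¹} : Set G) = centralizer ({a} : Set G) := by
  ext g
  simp only [mem_centralizer_singleton_iff]
  exact Commute.inv_right_iff

omit [Finite G] in
theorem good_inv {a : G} (h : W.Good a) : W.Good a⁻¹ := by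
  rw [Good, orderOf_inv, centralizer_inv_singleton]
  exact h

omit [Finite G] in
theorem good_conj {a : G} (h : W.Good a) (g : G) : W.Good (g * a * g⁻¹) := by
  refine ⟨by rw [← MulAut.conj_apply, MulEquiv.orderOf_eq]; exact h.1, ?_⟩
  have e : centralizer ({g * a * g⁻¹} : Set G) =
      (centralizer ({a} : Set G)).map (MulAut.conj g).toMonoidHom := by
    ext z
    simp only [mem_centralizer_singleton_iff, Subgroup.mem_map]
    constructor
    · intro hz
      refine ⟨g⁻¹ * z * g, ?_, by simp [mul_assoc]⟩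
      have hz' : Commute (g * (g⁻¹ * z * g) * g⁻¹) (g * a * g⁻¹) := by
        rw [show g * (g⁻¹ * z * g) * g⁻¹ = z by group]
        exact hz
      exact (Commute.conj_iff g).1 hz'
    · rintro ⟨b, hb, rfl⟩
      exact (Commute.conj_iff g).2 hb
  rw [e, Subgroup.card_map_of_injective (MulAut.conj g).injective]
  exact h.2

/-- The data of `exists_odd_rep`. -/
structure Rep where
  s : G
  t : G
  x : G
  hs : W.Two s
  hsP : s ∉ (W.P : Subgroup G)
  ht : W.Two t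
  htP : t ∈ (W.P : Subgroup G)
  hxC : x ∈ W.C
  hxo : Odd (orderOf x)
  hxD : x⁻¹ * (s * t) ∈ W.D
  htx : t * x * t⁻¹ = x⁻¹

theorem nonempty_rep : Nonempty W.Rep := by
  obtain ⟨s, t, hs, hsP, ht, htP⟩ := W.exists_start
  obtain ⟨x, hxC, hxo, hxD, htx, -⟩ := W.exists_odd_rep hs hsP ht htP
  exact ⟨⟨s, t, x, hs, hsP, ht, htP, hxC, hxo, hxD, htx⟩⟩

variable {W} (R : W.Rep)

/-- The factorisations. -/
abbrev Pairs : Type _ :=
  {r : G × G // W.Good r.1 ∧ W.Good r.2 ∧ (R.x * R.x)⁻¹ * (r.1 * r.2) ∈ W.D}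

omit [Finite G] in
theorem commute_u_xx {u : G} (hu : u ∈ W.D) : Commute u (R.x * R.x)⁻¹ :=
  W.commute_of_mem (W.C.inv_mem (W.C.mul_mem R.hxC R.hxC)) hu

/-- Conjugation by `D` on the factorisations. -/
@[reducible] def conjAction : MulAction ↥W.D (Pairs R) where
  smul u r := ⟨((u : G) * r.1.1 * (u : G)⁻¹, (u : G) * r.1.2 * (u : G)⁻¹),
    W.good_conj r.2.1 _, W.good_conj r.2.2.1 _, by
      have e : (R.x * R.x)⁻¹ * (((u : G) * r.1.1 * (u : G)⁻¹) * ((u : G) * r.1.2 * (u : G)⁻¹)) =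
          (u : G) * ((R.x * R.x)⁻¹ * (r.1.1 * r.1.2)) * (u : G)⁻¹ := by
        rw [show (u : G) * ((R.x * R.x)⁻¹ * (r.1.1 * r.1.2)) * (u : G)⁻¹ =
          ((u : G) * (R.x * R.x)⁻¹) * (r.1.1 * r.1.2) * (u : G)⁻¹ by group,
          (commute_u_xx R u.2).eq]
        group
      show (R.x * R.x)⁻¹ * (((u : G) * r.1.1 * (u : G)⁻¹) * ((u : G) * r.1.2 * (u : G)⁻¹)) ∈ W.D
      rw [e]
      exact W.D.mul_mem (W.D.mul_mem u.2 r.2.2.2) (W.D.inv_mem u.2)⟩
  one_smul r := Subtype.ext (Prod.ext (by show ((1 : ↥W.D) : G) * r.1.1 * _ = _; simp)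
    (by show ((1 : ↥W.D) : G) * r.1.2 * _ = _; simp))
  mul_smul u v r := Subtype.ext (Prod.ext
    (by show ((u * v : ↥W.D) : G) * r.1.1 * _ = (u : G) * ((v : G) * r.1.1 * (v : G)⁻¹) * _
        simp [mul_assoc])
    (by show ((u * v : ↥W.D) : G) * r.1.2 * _ = (u : G) * ((v : G) * r.1.2 * (v : G)⁻¹) * _
        simp [mul_assoc]))

/-- The factorisations inside `C(D)`. -/
abbrev PairsC : Type _ := {r : Pairs R // r.1.1 ∈ W.C ∧ r.1.2 ∈ W.C}

theorem card_pairs_modEq : Nat.card (Pairs R) ≡ Nat.card (PairsC R) [MOD 2] := by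
  letI := conjAction R
  refine (W.isPGroup_D.card_modEq_card_fixedPoints (Pairs R)).trans (congrArg (· % 2) ?_)
  refine Nat.card_congr (Equiv.subtypeEquivRight fun r => ?_)
  constructor
  · intro h
    constructor <;>
    · rw [mem_centralizer_iff]
      intro u hu
      have h1 := congrArg Subtype.val (h ⟨u, hu⟩)
      first
        | exact mul_inv_eq_iff_eq_mul.1 (congrArg Prod.fst h1)
        | exact mul_inv_eq_iff_eq_mul.1 (congrArg Prod.snd h1)
  · rintro ⟨h1, h2⟩ u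
    exact Subtype.ext (Prod.ext
      (mul_inv_eq_iff_eq_mul.2 (W.commute_of_mem h1 u.2).eq)
      (mul_inv_eq_iff_eq_mul.2 (W.commute_of_mem h2 u.2).eq))

omit [Finite G] in
theorem conj_t_xx : R.t * (R.x * R.x)⁻¹ * R.t⁻¹ = R.x * R.x := by
  have h : R.t * (R.x * R.x) * R.t⁻¹ = (R.x * R.x)⁻¹ := by
    rw [← conj_mul, R.htx, mul_inv_rev]
  rw [← conj_inv, h, inv_inv]

/-- The swap. -/
def swap (r : PairsC R) : PairsC R :=
  ⟨⟨(R.t * r.1.1.2⁻¹ * R.t⁻¹, R.t * r.1.1.1⁻¹ * R.t⁻¹),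
      W.good_conj (W.good_inv r.1.2.2.1) _, W.good_conj (W.good_inv r.1.2.1) _, by
      set a := r.1.1.1
      set b := r.1.1.2
      set u := (R.x * R.x)⁻¹ * (a * b) with hu
      have huD : u ∈ W.D := r.1.2.2.2
      have e : a * b = R.x * R.x * u := by rw [hu]; group
      have h1 : Commute u⁻¹ R.t := W.commute_of_mem R.ht.1 (W.D.inv_mem huD)
      have h2 : Commute u⁻¹ (R.x * R.x) :=
        W.commute_of_mem (W.C.mul_mem R.hxC R.hxC) (W.D.inv_mem huD)
      show (R.x * R.x)⁻¹ * (R.t * b⁻¹ * R.t⁻¹ * (R.t * a⁻¹ * R.t⁻¹)) ∈ W.D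
      have e2 : (R.x * R.x)⁻¹ * (R.t * b⁻¹ * R.t⁻¹ * (R.t * a⁻¹ * R.t⁻¹)) = u⁻¹ := by
        calc (R.x * R.x)⁻¹ * (R.t * b⁻¹ * R.t⁻¹ * (R.t * a⁻¹ * R.t⁻¹))
            = (R.x * R.x)⁻¹ * (R.t * (a * b)⁻¹ * R.t⁻¹) := by group
          _ = (R.x * R.x)⁻¹ * ((R.t * u⁻¹) * (R.x * R.x)⁻¹ * R.t⁻¹) := by rw [e]; group
          _ = (R.x * R.x)⁻¹ * (u⁻¹ * (R.t * (R.x * R.x)⁻¹ * R.t⁻¹)) := by rw [← h1.eq]; group
          _ = (R.x * R.x)⁻¹ * (u⁻¹ * (R.x * R.x)) := by rw [conj_t_xx R]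
          _ = u⁻¹ := by rw [h2.eq, inv_mul_cancel_left]
      rw [e2]
      exact W.D.inv_mem huD⟩,
    W.C.mul_mem (W.C.mul_mem R.ht.1 (W.C.inv_mem r.2.2)) (W.C.inv_mem R.ht.1),
    W.C.mul_mem (W.C.mul_mem R.ht.1 (W.C.inv_mem r.2.1)) (W.C.inv_mem R.ht.1)⟩

omit [Finite G] in
theorem swap_swap (r : PairsC R) : swap R (swap R r) = r := by
  have h : ∀ a : G, a ∈ W.C → R.t * (R.t * a⁻¹ * R.t⁻¹)⁻¹ * R.t⁻¹ = a := fun a ha => by
    have h1 : Commute (R.t * R.t) a := W.commute_of_mem ha R.ht.2.1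
    calc R.t * (R.t * a⁻¹ * R.t⁻¹)⁻¹ * R.t⁻¹ = (R.t * R.t) * a * (R.t * R.t)⁻¹ := by group
      _ = a := by rw [h1.eq, mul_inv_cancel_right]
  exact Subtype.ext (Subtype.ext (Prod.ext (h _ r.2.1) (h _ r.2.2)))

/-- If `c` moves `t` by an element of `D` then it centralises it. -/
theorem commute_of_conj {c d : G} (hc : c ∈ W.C) (hd : d ∈ W.D) (h : c * R.t * c⁻¹ = d * R.t) :
    Commute c R.t := by
  obtain ⟨e, m, hm, ho⟩ := exists_odd_exponent c
  have hp : ∀ i : ℕ, c ^ i * R.t * (c ^ i)⁻¹ = d ^ i * R.t := by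
    intro i
    induction i with
    | zero => simp
    | succ i ih =>
      have h1 : Commute (d ^ i) c := W.commute_of_mem hc (W.D.pow_mem hd i)
      calc c ^ (i + 1) * R.t * (c ^ (i + 1))⁻¹ = c * (c ^ i * R.t * (c ^ i)⁻¹) * c⁻¹ := by
            rw [pow_succ']; group
        _ = (c * d ^ i) * R.t * c⁻¹ := by rw [ih]; group
        _ = d ^ i * (c * R.t * c⁻¹) := by rw [← h1.eq]; group
        _ = d ^ (i + 1) * R.t := by rw [h, pow_succ, mul_assoc]
  have hz : (c ^ m) ^ 2 ^ e = 1 := by rw [← pow_mul, mul_comm, ← ho, pow_orderOf_eq_one]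
  obtain ⟨j, hj⟩ := W.pow_two_pow_of_sq R.ht.2.1
  have hconj : c ^ m * R.t * (c ^ m)⁻¹ = d ^ m * (R.t * R.t) * R.t⁻¹ := by rw [hp m]; group
  obtain ⟨S, -, hzS, htS⟩ := W.exists_sylow_pair R.ht.1 hj (W.C.pow_mem hc m) hz
    (W.D.mul_mem (W.D.pow_mem hd m) R.ht.2.1) hconj
  have hcm : c ^ m * R.t * (c ^ m)⁻¹ = R.t := by
    rw [W.comm S _ htS _ hzS, mul_inv_cancel_right]
  rw [hp m, mul_eq_right] at hcm
  obtain ⟨k, hk⟩ := W.isPGroup_D ⟨d, hd⟩
  have hk' : d ^ 2 ^ k = 1 := by simpa using congrArg Subtype.val hk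
  have hd1 : d = 1 := by
    have := pow_gcd_eq_one.2 ⟨hcm, hk'⟩
    rwa [Nat.Coprime.pow_right k (Nat.coprime_two_right.2 hm), pow_one] at this
  rw [hd1, one_mul] at h
  exact mul_inv_eq_iff_eq_mul.1 h

/-- The elements `c` with `x c` good and commuting with `t`. -/
abbrev Mids : Type _ := {c : G // c ∈ W.C ∧ Commute c R.t ∧ W.Good (R.x * c)}

theorem card_fixed_swap : Nat.card {r : PairsC R // swap R r = r} = Nat.card (Mids R) := by
  refine Nat.card_congr (Equiv.ofBijective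
    (fun r => (⟨R.x⁻¹ * r.1.1.1.1, W.C.mul_mem (W.C.inv_mem R.hxC) r.1.2.1, ?_, ?_⟩ : Mids R))
    ⟨?_, ?_⟩)
  · obtain ⟨⟨⟨⟨a, b⟩, hga, hgb, hab⟩, haC, hbC⟩, hfix⟩ := r
    have hb : R.t * a⁻¹ * R.t⁻¹ = b :=
      congrArg (fun r : PairsC R => r.1.1.2) hfix
    dsimp only at hab haC ⊢
    rw [← hb] at hab
    set u := (R.x * R.x)⁻¹ * (a * (R.t * a⁻¹ * R.t⁻¹)) with hu
    have e : a * R.t * a⁻¹ = R.x * R.x * u * R.t := by rw [hu]; group
    refine commute_of_conj R (W.C.mul_mem (W.C.inv_mem R.hxC) haC) hab ?_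
    have h1 : R.t * R.x = R.x⁻¹ * R.t := by rw [← R.htx]; group
    have h2 : Commute u R.x⁻¹ := W.commute_of_mem (W.C.inv_mem R.hxC) hab
    calc R.x⁻¹ * a * R.t * (R.x⁻¹ * a)⁻¹ = R.x⁻¹ * (a * R.t * a⁻¹) * R.x := by group
      _ = R.x * u * (R.t * R.x) := by rw [e]; group
      _ = R.x * (u * R.x⁻¹) * R.t := by rw [h1]; group
      _ = R.x * (R.x⁻¹ * u) * R.t := by rw [h2.eq]
      _ = u * R.t := by group
  · rw [mul_inv_cancel_left]
    exact r.1.1.2.1
  · rintro ⟨r, hr⟩ ⟨r', hr'⟩ h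
    have h1 : r.1.1.1 = r'.1.1.1 := mul_left_cancel (congrArg Subtype.val h)
    have h2 : R.t * r.1.1.1⁻¹ * R.t⁻¹ = r.1.1.2 := congrArg (fun r : PairsC R => r.1.1.2) hr
    have h2' : R.t * r'.1.1.1⁻¹ * R.t⁻¹ = r'.1.1.2 := congrArg (fun r : PairsC R => r.1.1.2) hr'
    exact Subtype.ext (Subtype.ext (Subtype.ext (Prod.ext h1 (by rw [← h2, ← h2', h1]))))
  · rintro ⟨c, hcC, hct, hg⟩
    set a := R.x * c with ha
    have haC : a ∈ W.C := W.C.mul_mem R.hxC hcC
    have hprod : (R.x * R.x)⁻¹ * (a * (R.t * a⁻¹ * R.t⁻¹)) = 1 := by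
      have h1 : R.t * R.x⁻¹ * R.t⁻¹ = R.x := by rw [← conj_inv, R.htx, inv_inv]
      calc (R.x * R.x)⁻¹ * (a * (R.t * a⁻¹ * R.t⁻¹))
          = (R.x * R.x)⁻¹ * (R.x * ((c * R.t) * c⁻¹) * R.x⁻¹ * R.t⁻¹) := by rw [ha]; group
        _ = (R.x * R.x)⁻¹ * (R.x * (R.t * R.x⁻¹ * R.t⁻¹)) := by rw [hct.eq]; group
        _ = 1 := by rw [h1, inv_mul_cancel]
    let r : PairsC R := ⟨⟨(a, R.t * a⁻¹ * R.t⁻¹), hg, W.good_conj (W.good_inv hg) _,
        by rw [hprod]; exact W.D.one_mem⟩, haC,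
      W.C.mul_mem (W.C.mul_mem R.ht.1 (W.C.inv_mem haC)) (W.C.inv_mem R.ht.1)⟩
    refine ⟨⟨r, ?_⟩, Subtype.ext (inv_mul_cancel_left _ _)⟩
    refine Subtype.ext (Subtype.ext (Prod.ext ?_ rfl))
    show R.t * (R.t * a⁻¹ * R.t⁻¹)⁻¹ * R.t⁻¹ = a
    exact congrArg (fun r : PairsC R => r.1.1.1) (swap_swap R r)

/-- Inversion on `Mids`. -/
def invMid (c : Mids R) : Mids R :=
  ⟨c.1⁻¹, W.C.inv_mem c.2.1, c.2.2.1.inv_left, by
    have h := W.good_conj (W.good_inv c.2.2.2) (R.t * c.1)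
    have h1 : R.t * R.x⁻¹ * R.t⁻¹ = R.x := by rw [← conj_inv, R.htx, inv_inv]
    have h2 : R.t * c.1⁻¹ * R.t⁻¹ = c.1⁻¹ := by rw [← c.2.2.1.inv_left.eq, mul_inv_cancel_right]
    have e : R.t * c.1 * (R.x * c.1)⁻¹ * (R.t * c.1)⁻¹ = R.x * c.1⁻¹ := by
      calc R.t * c.1 * (R.x * c.1)⁻¹ * (R.t * c.1)⁻¹
          = (R.t * R.x⁻¹ * R.t⁻¹) * (R.t * c.1⁻¹ * R.t⁻¹) := by group
        _ = R.x * c.1⁻¹ := by rw [h1, h2]
    rwa [e] at h⟩

/-- The elements of `P` of order two modulo `D`, and `D`. -/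
def E : Subgroup G where
  carrier := {e | e ∈ (W.P : Subgroup G) ∧ e * e ∈ W.D}
  one_mem' := ⟨one_mem _, by rw [one_mul]; exact W.D.one_mem⟩
  mul_mem' := fun {a b} ha hb => ⟨mul_mem ha.1 hb.1, by
    have e : a * b * (a * b) = a * a * (b * b) := by
      calc a * b * (a * b) = a * (b * a) * b := by group
        _ = a * (a * b) * b := by rw [W.comm W.P b hb.1 a ha.1]
        _ = _ := by group
    rw [e]
    exact W.D.mul_mem ha.2 hb.2⟩
  inv_mem' := fun {a} ha => ⟨inv_mem ha.1, by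
    rw [← mul_inv_rev]; exact W.D.inv_mem ha.2⟩

omit [Finite G] in
theorem D_le_E : W.D ≤ E (W := W) := fun _ hu => ⟨hu.1, W.D.mul_mem hu hu⟩

instance : ((W.D).subgroupOf (E (W := W))).Normal :=
  ⟨fun n hn g => by
    rw [Subgroup.mem_subgroupOf] at hn ⊢
    push_cast
    rw [W.comm W.P _ g.2.1 _ hn.1, mul_inv_cancel_right]
    exact hn⟩

omit [Finite G] in
theorem mk_eq_iff (a b : ↥(E (W := W))) :
    (QuotientGroup.mk a : ↥(E (W := W)) ⧸ (W.D).subgroupOf (E (W := W))) = QuotientGroup.mk b ↔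
      (a : G)⁻¹ * b ∈ W.D := by
  rw [QuotientGroup.eq, Subgroup.mem_subgroupOf]
  rfl

/-- The class of `t`. -/
def tbar : ↥(E (W := W)) ⧸ (W.D).subgroupOf (E (W := W)) :=
  QuotientGroup.mk ⟨R.t, R.htP, R.ht.2.1⟩

theorem even_quotient (R₀ : W.Rep) : 2 ∣ Nat.card (↥(E (W := W)) ⧸ (W.D).subgroupOf (E (W := W))) := by
  refine dvd_trans (dvd_of_eq ?_) (orderOf_dvd_natCard (tbar R₀))
  refine (orderOf_eq_prime (p := 2) ?_ ?_).symm
  · rw [pow_two, tbar, ← QuotientGroup.mk_mul, QuotientGroup.eq_one_iff, Subgroup.mem_subgroupOf]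
    exact R₀.ht.2.1
  · rw [tbar, Ne, QuotientGroup.eq_one_iff, Subgroup.mem_subgroupOf]
    exact R₀.ht.2.2

theorem card_fixed_invMid : Nat.card {c : Mids R // invMid R c = c} =
    Nat.card {q : ↥(E (W := W)) ⧸ (W.D).subgroupOf (E (W := W)) // q ≠ tbar R} := by
  have key : ∀ c : {c : Mids R // invMid R c = c},
      c.1.1 * c.1.1 = 1 ∧ c.1.1 ∈ (W.P : Subgroup G) := by
    rintro ⟨⟨c, hcC, hct, hg⟩, hfix⟩
    have h1 : c * c = 1 := by
      have := congrArg Subtype.val hfix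
      exact mul_eq_one_iff_eq_inv.2 this.symm
    refine ⟨h1, ?_⟩
    obtain ⟨j, hj⟩ := W.pow_two_pow_of_sq R.ht.2.1
    have hc2 : c ^ 2 ^ 1 = 1 := by rw [pow_one, pow_two, h1]
    have hconj : c * R.t * c⁻¹ = R.t * R.t * R.t⁻¹ := by
      rw [hct.eq, mul_inv_cancel_right, mul_inv_cancel_right]
    obtain ⟨S, hSD, htS, hcS⟩ := W.exists_sylow_pair R.ht.1 hj hcC hc2 R.ht.2.1 hconj
    rw [← W.eq_P hSD htS R.htP R.ht.2.2]
    exact hcS
  refine Nat.card_congr (Equiv.ofBijective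
    (fun c => (⟨QuotientGroup.mk ⟨c.1.1, (key c).2, by rw [(key c).1]; exact W.D.one_mem⟩, ?_⟩ :
      {q : ↥(E (W := W)) ⧸ (W.D).subgroupOf (E (W := W)) // q ≠ tbar R})) ⟨?_, ?_⟩)
  · -- not the class of `t`
    intro h
    rw [tbar, mk_eq_iff] at h
    set cc := c.1.1 with hcc
    obtain ⟨hcC, hct, hg⟩ := c.1.2
    -- `x * c` is then congruent to `s`
    have hcP : cc ∈ (W.P : Subgroup G) := (key c).2
    have h1 : (R.x * cc)⁻¹ * R.s ∈ W.D := by
      set u := R.x⁻¹ * (R.s * R.t) with hu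
      have e : (R.x * cc)⁻¹ * R.s = (cc⁻¹ * R.t) * ((R.t⁻¹ * u) * R.t⁻¹) := by rw [hu]; group
      rw [e, ← (W.commute_of_mem (W.C.inv_mem R.ht.1) R.hxD).eq]
      rw [show u * R.t⁻¹ * R.t⁻¹ = u * (R.t * R.t)⁻¹ by group]
      exact W.D.mul_mem h (W.D.mul_mem R.hxD (W.D.inv_mem R.ht.2.1))
    obtain ⟨i, hi⟩ := W.pow_two_pow_of_sq R.hs.2.1
    -- the odd element `x * c` is a 2-element times an element of `D`
    set a := R.x * cc with ha
    set u := a⁻¹ * R.s with hu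
    have hc : Commute a u := (W.commute_of_mem (W.C.mul_mem R.hxC hcC) h1).symm
    obtain ⟨k, hk⟩ := W.isPGroup_D ⟨u, h1⟩
    have hk' : u ^ 2 ^ k = 1 := by simpa using congrArg Subtype.val hk
    have hse : R.s = a * u := by rw [hu]; group
    have ha2 : a ^ 2 ^ (i + k) = 1 := by
      have h2 : (a * u) ^ 2 ^ (i + k) = 1 := by
        rw [← hse, pow_add, pow_mul, hi, one_pow]
      rwa [hc.mul_pow, show 2 ^ (i + k) = 2 ^ k * 2 ^ i by rw [pow_add, mul_comm],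
        pow_mul u, hk', one_pow, mul_one, show 2 ^ k * 2 ^ i = 2 ^ (i + k) by rw [pow_add, mul_comm]]
        at h2
    have ha1 : a = 1 := by
      have := pow_gcd_eq_one.2 ⟨ha2, pow_orderOf_eq_one a⟩
      rwa [Nat.Coprime.pow_left (i + k) (Nat.coprime_two_left.2 hg.1), pow_one] at this
    exact R.hs.2.2 (by rw [hse, ha1, one_mul]; exact h1)
  · rintro ⟨⟨c, hcC, hct, hg⟩, hfix⟩ ⟨⟨c', hcC', hct', hg'⟩, hfix'⟩ h
    have hh : c⁻¹ * c' ∈ W.D := (mk_eq_iff _ _).1 (congrArg Subtype.val h)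
    refine Subtype.ext (Subtype.ext (mul_left_cancel (a := R.x) ?_))
    refine W.eq_of_odd (W.C.mul_mem R.hxC hcC) hg.1 hg'.1 ?_
    have e : (R.x * c)⁻¹ * (R.x * c') = c⁻¹ * c' := by group
    rwa [e]
  · rintro ⟨q, hq⟩
    induction q using QuotientGroup.induction_on with
    | H e =>
      have hne : ¬ (e : G)⁻¹ * R.t ∈ W.D := fun h => hq ((mk_eq_iff e ⟨R.t, R.htP, R.ht.2.1⟩).2 h)
      have htE : R.t ∈ E (W := W) := ⟨R.htP, R.ht.2.1⟩
      have ht' : W.Two (R.t * (e : G)) := by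
        refine ⟨W.C.mul_mem R.ht.1 (W.P_le_C e.2.1), ((E (W := W)).mul_mem htE e.2).2, ?_⟩
        intro h
        apply hne
        have e1 : (e : G)⁻¹ * R.t = (R.t * (e : G))⁻¹ * (R.t * R.t) := by group
        rw [e1]
        exact W.D.mul_mem (W.D.inv_mem h) R.ht.2.1
      have ht'P : R.t * (e : G) ∈ (W.P : Subgroup G) := mul_mem R.htP e.2.1
      obtain ⟨y, hyC, hyo, hyD, hty, -⟩ := W.exists_odd_rep R.hs R.hsP ht' ht'P
      have hyg : W.Good y := ⟨hyo, W.factorization_centralizer R.hs R.hsP ht' ht'P hyC hyD hty⟩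
      set c := R.x⁻¹ * y with hc
      have hce : (e : G)⁻¹ * c ∈ W.D := by
        set u := R.x⁻¹ * (R.s * R.t) with hu
        set v := y⁻¹ * (R.s * (R.t * (e : G))) with hv
        have e1 : (e : G)⁻¹ * c = (e : G)⁻¹ * u * (e : G) * v⁻¹ := by rw [hc, hu, hv]; group
        rw [e1]
        refine W.D.mul_mem ?_ (W.D.inv_mem hyD)
        rw [mul_assoc, (W.commute_of_mem (W.P_le_C e.2.1) R.hxD).eq, inv_mul_cancel_left]
        exact R.hxD
      have hcP : c ∈ (W.P : Subgroup G) := by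
        have : c = (e : G) * ((e : G)⁻¹ * c) := by group
        rw [this]
        exact mul_mem e.2.1 hce.1
      have hct : Commute c R.t := W.comm W.P c hcP R.t R.htP
      have hcC : c ∈ W.C := W.P_le_C hcP
      have hgc : W.Good (R.x * c) := by rw [hc, mul_inv_cancel_left]; exact hyg
      have hcc : c * c ∈ W.D := by
        have he : (e : G)⁻¹ * c ∈ E (W := W) := D_le_E hce
        have : c ∈ E (W := W) := by
          have h := (E (W := W)).mul_mem e.2 he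
          rwa [mul_inv_cancel_left] at h
        exact this.2
      let m : Mids R := ⟨c, hcC, hct, hgc⟩
      have hfix : invMid R m = m := by
        refine Subtype.ext ?_
        have h1 := W.eq_of_odd (W.C.mul_mem R.hxC (W.C.inv_mem hcC)) (invMid R m).2.2.2.1 hgc.1
          (by
            have e2 : (R.x * c⁻¹)⁻¹ * (R.x * c) = c * c := by group
            rwa [e2])
        exact mul_left_cancel h1
      refine ⟨⟨m, hfix⟩, Subtype.ext ?_⟩
      refine ((mk_eq_iff _ e).2 ?_)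
      have : c⁻¹ * (e : G) = ((e : G)⁻¹ * c)⁻¹ := by group
      show c⁻¹ * (e : G) ∈ W.D
      rw [this]
      exact W.D.inv_mem hce

/-- The factorisations form a set of odd order. -/
theorem odd_card_pairs : Odd (Nat.card (Pairs R)) := by
  classical
  have h1 := card_pairs_modEq R
  have h2 := card_modEq_fixed (swap R) (swap_swap R)
  have h3 := card_modEq_fixed (invMid R) (fun c => Subtype.ext (inv_inv c.1))
  have h := h1.trans h2
  rw [card_fixed_swap R] at h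
  have h' := h.trans h3
  rw [card_fixed_invMid R] at h'
  have : Fintype (↥(E (W := W)) ⧸ (W.D).subgroupOf (E (W := W))) := Fintype.ofFinite _
  have hcard : Nat.card {q : ↥(E (W := W)) ⧸ (W.D).subgroupOf (E (W := W)) // q ≠ tbar R} + 1 =
      Nat.card (↥(E (W := W)) ⧸ (W.D).subgroupOf (E (W := W))) := by
    rw [Nat.card_eq_fintype_card, Nat.card_eq_fintype_card, Fintype.card_subtype_compl,
      Fintype.card_subtype_eq]
    have := Fintype.card_pos (α := ↥(E (W := W)) ⧸ (W.D).subgroupOf (E (W := W)))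
    omega
  have he := even_quotient R
  rw [Nat.odd_iff]
  unfold Nat.ModEq at h'
  omega

end Pair

end Cfsg.Agent.RealEvenChar
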